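import Cfsg.Agent.H754.KGV.TensB

/-!
# KGV: `core_one` and `core_tensor` (helper754)
-/

set_option autoImplicit false

namespace Cfsg.Agent.H754.KGV

open Cfsg Cfsg.Agent.H960.KGV Matrix
open scoped commutatorElement

section Grp

variable {G : Type} [Group G] {T : Type} [Group T] {m : ℕ}

/-- evaluation at `0` -/
def hd (T : Type) [Group T] (m : ℕ) : (Fin (m + 1) → T) →* T := Pi.evalMonoidHom (fun _ => T) 0

/-- the tail -/
def tl (T : Type) [Group T] (m : ℕ) : (Fin (m + 1) → T) →* (Fin m → T) where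
  toFun f i := f i.succ
  map_one' := rfl
  map_mul' _ _ := rfl

theorem ext_iff' {x : Fin (m + 1) → T} : x = 1 ↔ hd T m x = 1 ∧ tl T m x = 1 := by
  constructor
  · rintro rfl
    exact ⟨rfl, rfl⟩
  · rintro ⟨h1, h2⟩
    funext i
    refine Fin.cases h1 (fun j => congrFun h2 j) i

/-- The structure of a central extension of `T ^ (m + 1)`. -/
theorem split (hTc : commutator T = ⊤) (π : G →* (Fin (m + 1) → T)) (hπ : Function.Surjective π)
    (hk : ∀ x : G, π x = 1 → x ∈ Subgroup.center G) :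
    ∃ E L₁ L₂ : Subgroup G, E.Normal ∧ E ≤ L₁ ∧
      (∀ x, x ∈ L₁ ↔ tl T m (π x) = 1) ∧ (∀ x, x ∈ L₂ ↔ hd T m (π x) = 1) ∧
      (∀ x ∈ L₁, ∃ y ∈ E, ∃ z : G, π z = 1 ∧ x = y * z) ∧
      (∀ x ∈ E, ∀ y ∈ L₂, x * y = y * x) ∧ (∀ g : G, ∃ x ∈ E, ∃ y ∈ L₂, g = x * y) ∧
      (∀ t : T, ∃ x ∈ L₁, hd T m (π x) = t) ∧ (∀ t : Fin m → T, ∃ x ∈ L₂, tl T m (π x) = t) := by
  let L₁ : Subgroup G := ((tl T m).comp π).ker
  let L₂ : Subgroup G := ((hd T m).comp π).ker
  have h1 : ∀ x, x ∈ L₁ ↔ tl T m (π x) = 1 := fun x => MonoidHom.mem_ker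
  have h2 : ∀ x, x ∈ L₂ ↔ hd T m (π x) = 1 := fun x => MonoidHom.mem_ker
  have hs1 : ∀ t : T, ∃ x ∈ L₁, hd T m (π x) = t := by
    intro t
    obtain ⟨x, hx⟩ := hπ (Fin.cons t (fun _ => 1))
    exact ⟨x, (h1 x).2 (by rw [hx]; rfl), by rw [hx]; rfl⟩
  have hs2 : ∀ t : Fin m → T, ∃ x ∈ L₂, tl T m (π x) = t := by
    intro t
    obtain ⟨x, hx⟩ := hπ (Fin.cons 1 t)
    exact ⟨x, (h2 x).2 (by rw [hx]; rfl), by rw [hx]; rfl⟩
  -- the commutator of `L₁` and `L₂` is central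
  have hc0 : ⁅L₁, L₂⁆ ≤ Subgroup.center G := by
    rw [Subgroup.commutator_le]
    intro x hx y hy
    apply hk
    rw [h1] at hx
    rw [h2] at hy
    rw [ext_iff']
    constructor
    · rw [map_commutatorElement, map_commutatorElement, hy, commutatorElement_one_right]
    · rw [map_commutatorElement, map_commutatorElement, hx, commutatorElement_one_left]
  have hc1 : ⁅⁅L₁, L₂⁆, L₁⁆ = ⊥ := by
    rw [Subgroup.commutator_eq_bot_iff_le_centralizer]
    exact hc0.trans (Subgroup.center_le_centralizer _)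
  have hc2 : ⁅⁅L₂, L₁⁆, L₁⁆ = ⊥ := by
    rw [Subgroup.commutator_comm L₂ L₁]
    exact hc1
  have hc3 : ⁅⁅L₁, L₁⁆, L₂⁆ = ⊥ := Subgroup.commutator_commutator_eq_bot_of_rotate hc1 hc2
  have hc : ∀ x ∈ ⁅L₁, L₁⁆, ∀ y ∈ L₂, x * y = y * x := by
    intro x hx y hy
    have h3 : ⁅x, y⁆ ∈ ⁅⁅L₁, L₁⁆, L₂⁆ := Subgroup.commutator_mem_commutator hx hy
    rw [hc3, Subgroup.mem_bot] at h3
    exact commutatorElement_eq_one_iff_mul_comm.1 h3
  -- `E` maps onto `T`
  have hmap : (⁅L₁, L₁⁆).map ((hd T m).comp π) = ⊤ := by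
    have h3 : L₁.map ((hd T m).comp π) = ⊤ := by
      rw [eq_top_iff]
      rintro t -
      obtain ⟨x, hx, hxt⟩ := hs1 t
      exact ⟨x, hx, hxt⟩
    rw [Subgroup.map_commutator, h3, ← commutator_def, hTc]
  have hE : ∀ g : G, ∃ x ∈ ⁅L₁, L₁⁆, hd T m (π x) = hd T m (π g) := by
    intro g
    have h3 : hd T m (π g) ∈ (⁅L₁, L₁⁆).map ((hd T m).comp π) := by
      rw [hmap]; exact Subgroup.mem_top _
    obtain ⟨x, hx, hxx⟩ := h3
    exact ⟨x, hx, hxx⟩
  have hEL₁ : ⁅L₁, L₁⁆ ≤ L₁ := Subgroup.commutator_le_self L₁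
  refine ⟨⁅L₁, L₁⁆, L₁, L₂, inferInstance, hEL₁, h1, h2, fun x hx => ?_, hc,
    fun g => ?_, hs1, hs2⟩
  · obtain ⟨y, hy, hyx⟩ := hE x
    refine ⟨y, hy, y⁻¹ * x, ext_iff'.2 ⟨?_, ?_⟩, by group⟩
    · rw [map_mul, map_mul, map_inv, map_inv, hyx, inv_mul_cancel]
    · rw [map_mul, map_mul, map_inv, map_inv, (h1 x).1 hx, (h1 y).1 (hEL₁ hy), inv_one, mul_one]
  · obtain ⟨y, hy, hyx⟩ := hE g
    refine ⟨y, hy, y⁻¹ * g, (h2 _).2 ?_, by group⟩
    rw [map_mul, map_mul, map_inv, map_inv, hyx, inv_mul_cancel]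

end Grp

theorem rp_pos {G : Type} [Group G] [Nontrivial G] {F : Type} [Field F] {d : ℕ}
    {ρ : G →* GL (Fin d) F} (h : Rp ρ) : 0 < d := by
  rcases Nat.eq_zero_or_pos d with rfl | h0
  · exfalso
    obtain ⟨x, y, hxy⟩ := exists_pair_ne G
    exact hxy (h.inj (Units.ext (Subsingleton.elim _ _)))
  · exact h0

theorem tensor_ind {F : Type} [Field F] [Finite F] {p f : ℕ} (hF : Nat.card F = p ^ f)
    {T : Type} [Group T] [IsSimpleGroup T] (hT : ¬ IsMulCommutative T) (m : ℕ) :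
    ∀ (G : Type) [Group G] [Finite G] (d : ℕ) (ρ : G →* GL (Fin d) F) (_ : Rp ρ)
      (_ : ¬ p ∣ Nat.card G) (π : G →* (Fin (m + 1) → T)) (_ : Function.Surjective π)
      (_ : ∀ x : G, π x = 1 ↔ Sca ρ x), ∃ n, HasRep T p f n ∧ n ^ (m + 1) ≤ d := by
  induction m with
  | zero =>
    intro G _ _ d ρ h hp π hπ hk
    refine ⟨d, hasRep_one h hF hp hT ((hd T 0).comp π) ?_ ?_, by simp⟩
    · intro t
      obtain ⟨x, hx⟩ := hπ (fun _ => t)
      exact ⟨x, by rw [MonoidHom.comp_apply, hx]; rfl⟩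
    · intro x
      rw [← hk, ext_iff']
      constructor
      · intro h1
        exact ⟨h1, Subsingleton.elim _ _⟩
      · intro h1
        exact h1.1
  | succ m ih =>
    intro G _ _ d ρ h hp π hπ hk
    have hTc := commutator_simple hT
    have hnt : Nontrivial G := by
      obtain ⟨t, ht⟩ := exists_ne (1 : T)
      obtain ⟨x, hx⟩ := hπ (fun _ => t)
      refine ⟨x, 1, ?_⟩
      rintro rfl
      rw [map_one] at hx
      exact ht (congrFun hx 0).symm
    obtain ⟨E, L₁, L₂, hEn, hE, h1, h2, h3, hc, hEL, hs1, hs2⟩ := split hTc π hπ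
      fun x hx => h.central.1 ((hk x).1 hx)
    obtain ⟨n₁, n₂, hn, ⟨ρ₁, hR₁, hS₁⟩, ⟨ρ₂, hR₂, hS₂⟩⟩ := exists_reps h E L₁ L₂ hE
      (fun x hx => by
        obtain ⟨y, hy, z, hz, hx⟩ := h3 x hx
        exact ⟨y, hy, z, (hk z).1 hz, hx⟩) hc hEL (rp_pos h)
    have hp1 : ¬ p ∣ Nat.card L₁ := fun hd => hp (hd.trans (Subgroup.card_subgroup_dvd_card _))
    have hp2 : ¬ p ∣ Nat.card L₂ := fun hd => hp (hd.trans (Subgroup.card_subgroup_dvd_card _))
    have r1 : HasRep T p f n₁ := by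
      refine hasRep_one hR₁ hF hp1 hT (((hd T (m + 1)).comp π).comp L₁.subtype) ?_ ?_
      · intro t
        obtain ⟨x, hx, hxt⟩ := hs1 t
        exact ⟨⟨x, hx⟩, hxt⟩
      · intro x
        rw [hS₁, ← hk, ext_iff']
        constructor
        · intro h4
          exact ⟨h4, (h1 x).1 x.2⟩
        · intro h4
          exact h4.1
    obtain ⟨n, r2, hn2⟩ := ih L₂ n₂ ρ₂ hR₂ hp2 (((tl T (m + 1)).comp π).comp L₂.subtype) (by
        intro t
        obtain ⟨x, hx, hxt⟩ := hs2 t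
        exact ⟨⟨x, hx⟩, hxt⟩) (by
        intro x
        rw [hS₂, ← hk, ext_iff' (x := π (x : G))]
        constructor
        · intro h4
          exact ⟨(h2 x).1 x.2, h4⟩
        · intro h4
          exact h4.2)
    rcases le_total n₁ n with h4 | h4
    · refine ⟨n₁, r1, ?_⟩
      calc n₁ ^ (m + 1 + 1) = n₁ * n₁ ^ (m + 1) := by rw [pow_succ, mul_comm]
        _ ≤ n₁ * n ^ (m + 1) := Nat.mul_le_mul_left _ (Nat.pow_le_pow_left h4 _)
        _ ≤ n₁ * n₂ := Nat.mul_le_mul_left _ hn2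
        _ = d := hn
    · refine ⟨n, r2, ?_⟩
      calc n ^ (m + 1 + 1) = n * n ^ (m + 1) := by rw [pow_succ, mul_comm]
        _ ≤ n₁ * n ^ (m + 1) := Nat.mul_le_mul_right _ h4
        _ ≤ n₁ * n₂ := Nat.mul_le_mul_left _ hn2
        _ = d := hn

variable {H : Type} [Group H] {A N C : Subgroup H} {p f a : ℕ} {F : Type} [Field F]
  {ψ : C →* GL (Fin a) F}

theorem core_rp (h : Core A N C p f a ψ) : Rp (ψ.comp (Subgroup.inclusion h.NC)) where
  inj := h.inj.comp (Subgroup.inclusion_injective h.NC)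
  irr U hU := h.irr U fun c hc u hu => hU ⟨c, hc⟩ u hu
  abs M hM := h.abs M fun c hc => hM ⟨c, hc⟩

theorem core_sca (h : Core A N C p f a ψ) (x : N) :
    Sca (ψ.comp (Subgroup.inclusion h.NC)) x ↔ (x : H) ∈ A :=
  (h.scal (Subgroup.inclusion h.NC x)).symm

theorem core_fin (h : Core A N C p f a ψ) : Finite F := by
  apply Nat.finite_of_card_ne_zero
  rw [h.cardF]
  exact (pow_pos h.prime.pos f).ne'

theorem core_one (h : Core A N C p f a ψ) {T : Type} [Group T] [Finite T] [IsSimpleGroup T]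
    (hT : ¬ IsMulCommutative T) (π : N →* T) (hπ : Function.Surjective π)
    (hk : ∀ x : N, π x = 1 ↔ (x : H) ∈ A) : HasRep T p f a := by
  have := h.fin
  have := core_fin h
  exact hasRep_one (core_rp h) h.cardF
    (fun hd => h.coprime (hd.trans (Subgroup.card_subgroup_dvd_card _))) hT π hπ
    fun x => by rw [hk, core_sca h]

theorem core_tensor (h : Core A N C p f a ψ) {T : Type} [Group T] [Finite T] [IsSimpleGroup T]
    (hT : ¬ IsMulCommutative T) {m : ℕ} (hm : 1 ≤ m) (π : N →* (Fin m → T))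
    (hπ : Function.Surjective π) (hk : ∀ x : N, π x = 1 ↔ (x : H) ∈ A) :
    ∃ d, HasRep T p f d ∧ d ^ m ≤ a := by
  have := h.fin
  have := core_fin h
  obtain ⟨m, rfl⟩ := Nat.exists_eq_add_of_le' hm
  exact tensor_ind h.cardF hT m N a _ (core_rp h)
    (fun hd => h.coprime (hd.trans (Subgroup.card_subgroup_dvd_card _))) π hπ
    fun x => by rw [hk, core_sca h]

end Cfsg.Agent.H754.KGV
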