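import Cfsg.Agent.H960.KGV.Core

/-!
# KGV: faithful absolutely irreducible representations of groups with simple quotient (helper754)
-/

set_option autoImplicit false

namespace Cfsg.Agent.H754.KGV

open Cfsg Cfsg.Agent.H960.KGV Matrix
open scoped commutatorElement

variable {G : Type} [Group G] {F : Type} [Field F] {d : ℕ}

/-- faithful absolutely irreducible representations -/
structure Rp (ρ : G →* GL (Fin d) F) : Prop where
  inj : Function.Injective ρ
  irr : ∀ U : Submodule F (Fin d → F), (∀ g : G, ∀ u ∈ U,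
    (ρ g : Matrix (Fin d) (Fin d) F).mulVec u ∈ U) → U = ⊥ ∨ U = ⊤
  abs : ∀ M : Matrix (Fin d) (Fin d) F, (∀ g : G, M * (ρ g : Matrix (Fin d) (Fin d) F) =
    (ρ g : Matrix (Fin d) (Fin d) F) * M) → ∃ s : F, M = s • (1 : Matrix (Fin d) (Fin d) F)

/-- the element acts as a scalar -/
def Sca (ρ : G →* GL (Fin d) F) (g : G) : Prop :=
  ∃ s : F, (ρ g : Matrix (Fin d) (Fin d) F) = s • 1

variable {ρ : G →* GL (Fin d) F}

theorem Rp.central (h : Rp ρ) {x : G} : Sca ρ x ↔ x ∈ Subgroup.center G := by
  constructor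
  · rintro ⟨s, hs⟩
    rw [Subgroup.mem_center_iff]
    intro g
    apply h.inj
    apply Units.ext
    rw [map_mul, map_mul, Units.val_mul, Units.val_mul, hs, smul_mul_assoc, one_mul,
      mul_smul_comm, mul_one]
  · intro hx
    obtain ⟨s, hs⟩ := h.abs (ρ x : Matrix (Fin d) (Fin d) F) fun g => by
      rw [← Units.val_mul, ← Units.val_mul, ← map_mul, ← map_mul,
        Subgroup.mem_center_iff.1 hx g]
    exact ⟨s, hs⟩

theorem commutator_simple {T : Type} [Group T] [IsSimpleGroup T] (hT : ¬ IsMulCommutative T) :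
    commutator T = ⊤ := by
  rcases (inferInstance : (commutator T).Normal).eq_bot_or_eq_top with h | h
  · exfalso
    apply hT
    refine ⟨⟨fun a b => ?_⟩⟩
    have h1 : ⁅a, b⁆ ∈ commutator T := Subgroup.commutator_mem_commutator (Subgroup.mem_top a)
      (Subgroup.mem_top b)
    rw [h, Subgroup.mem_bot] at h1
    exact commutatorElement_eq_one_iff_mul_comm.1 h1
  · exact h

/-- restriction to a subgroup which together with the scalars generates -/
theorem Rp.restr (h : Rp ρ) {K : Type} [Group K] (j : K →* G) (hj : Function.Injective j)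
    (hg : ∀ g : G, ∃ (k : K) (z : G), Sca ρ z ∧ g = j k * z) : Rp (ρ.comp j) where
  inj := h.inj.comp hj
  irr U hU := by
    refine h.irr U fun g u hu => ?_
    obtain ⟨k, z, ⟨s, hs⟩, rfl⟩ := hg g
    rw [map_mul, Units.val_mul, hs, mul_smul_comm, mul_one, smul_mulVec]
    exact U.smul_mem s (hU k u hu)
  abs M hM := by
    refine h.abs M fun g => ?_
    obtain ⟨k, z, ⟨s, hs⟩, rfl⟩ := hg g
    rw [map_mul, Units.val_mul, hs, mul_smul_comm, mul_one, mul_smul_comm, smul_mul_assoc]
    exact congrArg (s • ·) (hM k)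

/-- **One simple factor.** -/
theorem hasRep_one [Finite G] [Finite F] (h : Rp ρ) {p f : ℕ} (hF : Nat.card F = p ^ f)
    (hp : ¬ p ∣ Nat.card G) {T : Type} [Group T] [IsSimpleGroup T]
    (hT : ¬ IsMulCommutative T) (π : G →* T) (hπ : Function.Surjective π)
    (hk : ∀ x : G, π x = 1 ↔ Sca ρ x) : HasRep T p f d := by
  have hTc := commutator_simple hT
  have hmap : (commutator G).map π = ⊤ := by
    rw [commutator_def, Subgroup.map_commutator, ← MonoidHom.range_eq_map,
      MonoidHom.range_eq_top.2 hπ, ← commutator_def, hTc]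
  -- decomposition
  have hdec : ∀ g : G, ∃ e ∈ commutator G, ∃ z : G, Sca ρ z ∧ g = e * z := by
    intro g
    have h1 : π g ∈ (commutator G).map π := by rw [hmap]; exact Subgroup.mem_top _
    obtain ⟨e, he, hee⟩ := h1
    refine ⟨e, he, e⁻¹ * g, (hk _).1 ?_, by group⟩
    rw [map_mul, map_inv, hee, inv_mul_cancel]
  have hcen : ∀ {z : G}, Sca ρ z → ∀ g, g * z = z * g := fun hz g =>
    Subgroup.mem_center_iff.1 (h.central.1 hz) g
  -- `E` is perfect
  have hperf : commutator (commutator G) = ⊤ := by
    rw [eq_top_iff]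
    rintro ⟨x, hx⟩ -
    have key : commutator G ≤ (commutator (commutator G)).map (commutator G).subtype := by
      rw [commutator_def G, Subgroup.commutator_le]
      intro a _ b _
      obtain ⟨e, he, z, hz, rfl⟩ := hdec a
      obtain ⟨e', he', z', hz', rfl⟩ := hdec b
      refine ⟨⁅⟨e, he⟩, ⟨e', he'⟩⁆, Subgroup.commutator_mem_commutator (Subgroup.mem_top _)
        (Subgroup.mem_top _), ?_⟩
      show e * e' * e⁻¹ * e'⁻¹ = (e * z) * (e' * z') * (e * z)⁻¹ * (e' * z')⁻¹
      have c1 := hcen hz
      have c2 := hcen hz'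
      have h1 : e * z * (e' * z') = e * e' * (z * z') := by
        rw [mul_assoc e z, ← mul_assoc z e', ← c1 e']
        simp only [mul_assoc]
      have h2 : (e * z)⁻¹ * (e' * z')⁻¹ = (z * z')⁻¹ * (e⁻¹ * e'⁻¹) := by
        have h3 : e' * z' * (e * z) = e' * e * (z * z') := by
          rw [mul_assoc e' z', ← mul_assoc z' e, ← c2 e, mul_assoc e z' z, ← c1 z']
          simp only [mul_assoc]
        rw [← _root_.mul_inv_rev, h3]
        group
      rw [mul_assoc (e * z * (e' * z')), h2, h1]
      group
    obtain ⟨y, hy, hyx⟩ := key hx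
    have : y = ⟨x, hx⟩ := Subtype.ext hyx
    rwa [← this]
  -- the center
  have hcE : ∀ e : commutator G, e ∈ Subgroup.center (commutator G) ↔ π e = 1 := by
    intro e
    rw [hk, h.central, Subgroup.mem_center_iff, Subgroup.mem_center_iff]
    constructor
    · intro he g
      obtain ⟨e', he', z, hz, rfl⟩ := hdec g
      have h1 : e' * (e : G) = e * e' := congrArg Subtype.val (he ⟨e', he'⟩)
      rw [mul_assoc, ← hcen hz e, ← mul_assoc, h1, mul_assoc]
    · intro he g
      exact Subtype.ext (he g)
  let πE : commutator G →* T := π.comp (commutator G).subtype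
  have hπE : Function.Surjective πE := by
    intro t
    have h1 : t ∈ (commutator G).map π := by rw [hmap]; exact Subgroup.mem_top _
    obtain ⟨e, he, rfl⟩ := h1
    exact ⟨⟨e, he⟩, rfl⟩
  have hkE : πE.ker = Subgroup.center (commutator G) := by
    ext e
    rw [MonoidHom.mem_ker, hcE]
    rfl
  have hR : Rp (ρ.comp (commutator G).subtype) := h.restr _ (Subgroup.subtype_injective _) fun g => by
    obtain ⟨e, he, z, hz, hg⟩ := hdec g
    exact ⟨⟨e, he⟩, z, hz, hg⟩
  refine ⟨commutator G, inferInstance, inferInstance, F, inferInstance, inferInstance,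
    ρ.comp (commutator G).subtype, hperf, ⟨?_⟩, fun hd => hp (hd.trans (Subgroup.card_subgroup_dvd_card _)),
    hF, hR.inj, hR.irr, hR.abs⟩
  exact (QuotientGroup.quotientMulEquivOfEq hkE.symm).trans
    (QuotientGroup.quotientKerEquivOfSurjective πE hπE)

end Cfsg.Agent.H754.KGV
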