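import Cfsg.Agent.H754.KGV.One
import Cfsg.Agent.H912.Core6

/-!
# KGV: the two factors of a tensor decomposition (helper754)
-/

set_option autoImplicit false

namespace Cfsg.Agent.H754.KGV

open Cfsg Cfsg.Geo Cfsg.Agent.H960.KGV Cfsg.Agent.H912 Matrix
open scoped Kronecker

section Lift

theorem exists_lift {R S : Type} [Monoid R] [Monoid S] (φ : R →* S) (hφ : Function.Injective φ)
    {K : Type} [Group K] (r : K →* Sˣ) (h : ∀ k, ∃ a, φ a = r k) :
    ∃ r' : K →* Rˣ, ∀ k, φ (r' k) = r k := by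
  choose f hf using h
  have hmul : ∀ k k', f (k * k') = f k * f k' := fun k k' => hφ (by
    rw [map_mul, hf, hf, hf, map_mul, Units.val_mul])
  have hone : f 1 = 1 := hφ (by rw [hf, map_one, map_one, Units.val_one])
  refine ⟨{ toFun := fun k => ⟨f k, f k⁻¹, ?_, ?_⟩, map_one' := Units.ext hone,
            map_mul' := fun k k' => Units.ext (hmul k k') }, fun k => hf k⟩
  · rw [← hmul, mul_inv_cancel, hone]
  · rw [← hmul, inv_mul_cancel, hone]

end Lift

variable {ι : Type} [Fintype ι] [DecidableEq ι] {F : Type} [Field F] {n₁ n₂ : ℕ}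
  {e : ι ≃ Fin n₁ × Fin n₂} {P : GL ι F}

theorem conj_inj {X Y : Matrix ι ι F}
    (h : (P : Matrix ι ι F) * X * ((P⁻¹ : GL ι F) : Matrix ι ι F) =
      (P : Matrix ι ι F) * Y * ((P⁻¹ : GL ι F) : Matrix ι ι F)) : X = Y := by
  have h1 := congrArg (fun Z => ((P⁻¹ : GL ι F) : Matrix ι ι F) * Z * (P : Matrix ι ι F)) h
  have key : ∀ Z : Matrix ι ι F, ((P⁻¹ : GL ι F) : Matrix ι ι F) *
      ((P : Matrix ι ι F) * Z * ((P⁻¹ : GL ι F) : Matrix ι ι F)) * (P : Matrix ι ι F) = Z := by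
    intro Z
    have e1 : ((P⁻¹ : GL ι F) : Matrix ι ι F) * (P : Matrix ι ι F) = 1 := by
      rw [← Units.val_mul, inv_mul_cancel, Units.val_one]
    calc _ = (((P⁻¹ : GL ι F) : Matrix ι ι F) * (P : Matrix ι ι F)) * Z *
        (((P⁻¹ : GL ι F) : Matrix ι ι F) * (P : Matrix ι ι F)) := by simp only [mul_assoc]
      _ = Z := by rw [e1, one_mul, mul_one]
  simp only [key] at h1
  exact h1

theorem tens_inj_left (h2 : 0 < n₂) {a a' : Matrix (Fin n₁) (Fin n₁) F}
    (h : tens e P a 1 = tens e P a' 1) : a = a' := by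
  have h1 := (Matrix.reindexAlgEquiv F F e.symm).injective (conj_inj h)
  ext i j
  have h3 := congrFun (congrFun h1 (i, ⟨0, h2⟩)) (j, ⟨0, h2⟩)
  simpa [Matrix.kroneckerMap_apply] using h3

theorem tens_inj_right (h1 : 0 < n₁) {b b' : Matrix (Fin n₂) (Fin n₂) F}
    (h : tens e P 1 b = tens e P 1 b') : b = b' := by
  have h2 := (Matrix.reindexAlgEquiv F F e.symm).injective (conj_inj h)
  ext i j
  have h3 := congrFun (congrFun h2 (⟨0, h1⟩, i)) (⟨0, h1⟩, j)
  simpa [Matrix.kroneckerMap_apply] using h3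

theorem tens_smul_left (s : F) (a : Matrix (Fin n₁) (Fin n₁) F) (b : Matrix (Fin n₂) (Fin n₂) F) :
    tens e P (s • a) b = s • tens e P a b := by
  unfold tens
  rw [Matrix.smul_kronecker, map_smul, mul_smul_comm, smul_mul_assoc]

theorem tens_smul_right (s : F) (a : Matrix (Fin n₁) (Fin n₁) F) (b : Matrix (Fin n₂) (Fin n₂) F) :
    tens e P a (s • b) = s • tens e P a b := by
  unfold tens
  rw [Matrix.kronecker_smul, map_smul, mul_smul_comm, smul_mul_assoc]

/-- left factor -/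
def lf (e : ι ≃ Fin n₁ × Fin n₂) (P : GL ι F) : Matrix (Fin n₁) (Fin n₁) F →ₐ[F] Matrix ι ι F :=
  AlgHom.ofLinearMap
    { toFun := fun a => tens e P a 1
      map_add' := fun a b => by
        unfold tens
        rw [Matrix.add_kronecker, map_add, mul_add, add_mul]
      map_smul' := fun s a => tens_smul_left s a 1 }
    (tens_one e P) (fun a b => by
      show tens e P (a * b) 1 = tens e P a 1 * tens e P b 1
      rw [tens_mul, mul_one])

@[simp] theorem lf_apply (a : Matrix (Fin n₁) (Fin n₁) F) : lf e P a = tens e P a 1 := rfl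

/-- right factor -/
def rf (e : ι ≃ Fin n₁ × Fin n₂) (P : GL ι F) : Matrix (Fin n₂) (Fin n₂) F →ₐ[F] Matrix ι ι F :=
  AlgHom.ofLinearMap
    { toFun := fun b => tens e P 1 b
      map_add' := fun a b => by
        unfold tens
        rw [Matrix.kronecker_add, map_add, mul_add, add_mul]
      map_smul' := fun s a => tens_smul_right s 1 a }
    (tens_one e P) (fun a b => by
      show tens e P 1 (a * b) = tens e P 1 a * tens e P 1 b
      rw [tens_mul, mul_one])

@[simp] theorem rf_apply (b : Matrix (Fin n₂) (Fin n₂) F) : rf e P b = tens e P 1 b := rfl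

theorem tens_comm (a : Matrix (Fin n₁) (Fin n₁) F) (b : Matrix (Fin n₂) (Fin n₂) F) :
    tens e P a 1 * tens e P 1 b = tens e P 1 b * tens e P a 1 := by
  rw [tens_mul, tens_mul, mul_one, one_mul, mul_one, one_mul]

/-- all matrices act irreducibly -/
theorem irr_all {n : ℕ} (U : Submodule F (Fin n → F))
    (hU : ∀ a : Matrix (Fin n) (Fin n) F, ∀ u ∈ U, a.mulVec u ∈ U) : U = ⊥ ∨ U = ⊤ := by
  by_cases h : U = ⊥
  · exact Or.inl h
  right
  obtain ⟨u, hu, hu0⟩ := Submodule.exists_mem_ne_zero_of_ne_bot h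
  obtain ⟨i, hi⟩ := Function.ne_iff.1 hu0
  rw [eq_top_iff]
  rintro v -
  have h1 := hU (Matrix.vecMulVec v (Pi.single i (u i)⁻¹)) u hu
  have h2 : (Matrix.vecMulVec v (Pi.single i (u i)⁻¹)).mulVec u = v := by
    ext j
    simp only [Matrix.mulVec, dotProduct, Matrix.vecMulVec_apply]
    rw [Finset.sum_eq_single i]
    · rw [Pi.single_eq_same, mul_assoc, inv_mul_cancel₀ hi, mul_one]
    · intro k _ hk
      rw [Pi.single_eq_of_ne hk, mul_zero, zero_mul]
    · intro h
      exact absurd (Finset.mem_univ i) h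
  rwa [h2] at h1

/-- the vectors all of whose rows are in `U` -/
def rows (e : ι ≃ Fin n₁ × Fin n₂) (P : GL ι F) (U : Submodule F (Fin n₂ → F)) :
    Submodule F (ι → F) where
  carrier := {v | ∀ i : Fin n₁, (fun j => (((P⁻¹ : GL ι F) : Matrix ι ι F).mulVec v) (e.symm (i, j))) ∈ U}
  add_mem' {v w} hv hw i := by
    rw [mulVec_add]
    exact U.add_mem (hv i) (hw i)
  zero_mem' i := by
    rw [mulVec_zero]
    exact U.zero_mem
  smul_mem' s v hv i := by
    rw [mulVec_smul]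
    exact U.smul_mem s (hv i)

theorem mem_rows {U : Submodule F (Fin n₂ → F)} {v : ι → F} : v ∈ rows e P U ↔
    ∀ i : Fin n₁, (fun j => (((P⁻¹ : GL ι F) : Matrix ι ι F).mulVec v) (e.symm (i, j))) ∈ U :=
  Iff.rfl

theorem rows_coord (a : Matrix (Fin n₁) (Fin n₁) F) (b : Matrix (Fin n₂) (Fin n₂) F) (v : ι → F)
    (i : Fin n₁) (j : Fin n₂) :
    (((P⁻¹ : GL ι F) : Matrix ι ι F).mulVec ((tens e P a b).mulVec v)) (e.symm (i, j)) =
      ∑ i', a i i' * b.mulVec (fun j' => (((P⁻¹ : GL ι F) : Matrix ι ι F).mulVec v) (e.symm (i', j'))) j := by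
  have h1 : ((P⁻¹ : GL ι F) : Matrix ι ι F) * tens e P a b =
      Matrix.reindexAlgEquiv F F e.symm (a ⊗ₖ b) * ((P⁻¹ : GL ι F) : Matrix ι ι F) := by
    unfold tens
    rw [← mul_assoc, ← mul_assoc, ← Units.val_mul, inv_mul_cancel, Units.val_one, one_mul]
  rw [mulVec_mulVec, h1, ← mulVec_mulVec]
  set w := ((P⁻¹ : GL ι F) : Matrix ι ι F).mulVec v
  have h2 : ∀ k : ι, (Matrix.reindexAlgEquiv F F e.symm (a ⊗ₖ b)).mulVec w k =
      ∑ x : Fin n₁ × Fin n₂, (a (e k).1 x.1 * b (e k).2 x.2) * w (e.symm x) := by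
    intro k
    rw [Matrix.mulVec, dotProduct, ← Equiv.sum_comp e.symm]
    refine Finset.sum_congr rfl fun x _ => ?_
    simp [Matrix.coe_reindexAlgEquiv, Matrix.reindex_apply, Matrix.kroneckerMap_apply]
  rw [h2, Equiv.apply_symm_apply, Fintype.sum_prod_type]
  refine Finset.sum_congr rfl fun i' _ => ?_
  rw [Matrix.mulVec, dotProduct, Finset.mul_sum]
  refine Finset.sum_congr rfl fun j' _ => ?_
  rw [mul_assoc]

theorem rows_left {U : Submodule F (Fin n₂ → F)} (a : Matrix (Fin n₁) (Fin n₁) F) {v : ι → F}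
    (hv : v ∈ rows e P U) : (tens e P a 1).mulVec v ∈ rows e P U := by
  intro i
  have h1 : (fun j => (((P⁻¹ : GL ι F) : Matrix ι ι F).mulVec ((tens e P a 1).mulVec v)) (e.symm (i, j))) =
      ∑ i', a i i' • (fun j => (((P⁻¹ : GL ι F) : Matrix ι ι F).mulVec v) (e.symm (i', j))) := by
    funext j
    rw [rows_coord, Finset.sum_apply]
    refine Finset.sum_congr rfl fun i' _ => ?_
    rw [one_mulVec]
    rfl
  rw [h1]
  exact U.sum_mem fun i' _ => U.smul_mem _ (hv i')

theorem rows_right {U : Submodule F (Fin n₂ → F)} {b : Matrix (Fin n₂) (Fin n₂) F}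
    (hb : ∀ u ∈ U, b.mulVec u ∈ U) {v : ι → F}
    (hv : v ∈ rows e P U) : (tens e P 1 b).mulVec v ∈ rows e P U := by
  intro i
  have h1 : (fun j => (((P⁻¹ : GL ι F) : Matrix ι ι F).mulVec ((tens e P 1 b).mulVec v)) (e.symm (i, j))) =
      b.mulVec (fun j => (((P⁻¹ : GL ι F) : Matrix ι ι F).mulVec v) (e.symm (i, j))) := by
    funext j
    rw [rows_coord, Finset.sum_eq_single i]
    · rw [one_apply_eq, one_mul]
    · intro k _ hk
      rw [one_apply_ne (Ne.symm hk), zero_mul]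
    · intro h
      exact absurd (Finset.mem_univ i) h
  rw [h1]
  exact hb _ (hv i)

/-- the vector with all rows equal to `u` -/
theorem exists_row (u : Fin n₂ → F) : ∃ v : ι → F, ∀ (i : Fin n₁) (j : Fin n₂),
    (((P⁻¹ : GL ι F) : Matrix ι ι F).mulVec v) (e.symm (i, j)) = u j := by
  refine ⟨(P : Matrix ι ι F).mulVec fun k => u (e k).2, fun i j => ?_⟩
  rw [mulVec_mulVec, ← Units.val_mul, inv_mul_cancel, Units.val_one, one_mulVec,
    Equiv.apply_symm_apply]

theorem rows_eq_bot (h1 : 0 < n₁) {U : Submodule F (Fin n₂ → F)} (h : rows e P U = ⊥) : U = ⊥ := by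
  rw [eq_bot_iff]
  intro u hu
  obtain ⟨v, hv⟩ := exists_row (e := e) (P := P) u
  have h2 : v ∈ rows e P U := fun i => by
    have : (fun j => (((P⁻¹ : GL ι F) : Matrix ι ι F).mulVec v) (e.symm (i, j))) = u := by
      funext j
      exact hv i j
    rw [this]
    exact hu
  rw [h, Submodule.mem_bot] at h2
  rw [Submodule.mem_bot]
  funext j
  rw [← hv ⟨0, h1⟩ j, h2, mulVec_zero]
  rfl

theorem rows_eq_top (h1 : 0 < n₁) {U : Submodule F (Fin n₂ → F)} (h : rows e P U = ⊤) : U = ⊤ := by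
  rw [eq_top_iff]
  rintro u -
  obtain ⟨v, hv⟩ := exists_row (e := e) (P := P) u
  have h2 : v ∈ rows e P U := by rw [h]; exact Submodule.mem_top
  have h3 := h2 ⟨0, h1⟩
  have : (fun j => (((P⁻¹ : GL ι F) : Matrix ι ι F).mulVec v) (e.symm (⟨0, h1⟩, j))) = u := by
    funext j
    exact hv _ j
  rwa [this] at h3

end Cfsg.Agent.H754.KGV
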