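import Cfsg.Agent.H754.KGV.TensA

/-!
# KGV: the tensor decomposition of a representation of a central product (helper754)
-/

set_option autoImplicit false

namespace Cfsg.Agent.H754.KGV

open Cfsg Cfsg.Geo Cfsg.Agent.H960.KGV Cfsg.Agent.H912 Matrix
open scoped Kronecker

variable {G : Type} [Group G] {F : Type} [Field F] {d : ℕ} {ρ : G →* GL (Fin d) F}

theorem Rp.actsIrr (h : Rp ρ) : ActsIrreducibly (matrixSet ρ.range) := by
  intro W hW
  refine h.irr W fun g u hu => ?_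
  have h1 := hW _ ⟨ρ g, ⟨g, rfl⟩, rfl⟩
  exact h1 ⟨u, hu, rfl⟩

theorem env_comm {E : Subgroup G} {y : Matrix (Fin d) (Fin d) F}
    (hc : ∀ x ∈ E, (ρ x : Matrix (Fin d) (Fin d) F) * y = y * (ρ x : Matrix (Fin d) (Fin d) F))
    {a : Matrix (Fin d) (Fin d) F} (ha : a ∈ env (E.map ρ)) : a * y = y * a := by
  have h1 : env (E.map ρ) ≤ Subalgebra.centralizer F {y} := by
    refine Algebra.adjoin_le ?_
    rintro _ ⟨_, ⟨x, hx, rfl⟩, rfl⟩
    rw [SetLike.mem_coe, Subalgebra.mem_centralizer_iff]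
    rintro _ rfl
    exact (hc x hx).symm
  have h2 := h1 ha
  rw [Subalgebra.mem_centralizer_iff] at h2
  exact (h2 y rfl).symm

theorem exists_factor [Finite F] (h : Rp ρ) (E L : Subgroup G) [hEn : E.Normal]
    (hc : ∀ x ∈ E, ∀ y ∈ L, x * y = y * x) (hEL : ∀ g : G, ∃ x ∈ E, ∃ y ∈ L, g = x * y)
    (hd : 0 < d) :
    ∃ (n₁ n₂ : ℕ) (e : Fin d ≃ Fin n₁ × Fin n₂) (P : GL (Fin d) F), 0 < n₁ ∧ 0 < n₂ ∧
      n₁ * n₂ = d ∧
      (∀ x, x ∈ env (E.map ρ) ↔ ∃ a : Matrix (Fin n₁) (Fin n₁) F, x = tens e P a 1) ∧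
      (∀ y ∈ L, ∃ b, (ρ y : Matrix (Fin d) (Fin d) F) = tens e P 1 b) := by
  have hne : Nonempty (Fin d) := ⟨⟨0, hd⟩⟩
  have hc' : ∀ x ∈ E, ∀ y ∈ L, (ρ x : Matrix (Fin d) (Fin d) F) * (ρ y : Matrix (Fin d) (Fin d) F) =
      (ρ y : Matrix (Fin d) (Fin d) F) * (ρ x : Matrix (Fin d) (Fin d) F) := fun x hx y hy => by
    rw [← Units.val_mul, ← Units.val_mul, ← map_mul, ← map_mul, hc x hx y hy]
  have hN : NormGrp ρ.range (E.map ρ) := by
    rintro _ ⟨g, rfl⟩ _ ⟨x, hx, rfl⟩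
    exact ⟨g * x * g⁻¹, hEn.conj_mem x hx g, by rw [map_mul, map_mul, map_inv]⟩
  have hss := semisimple_of_norm h.actsIrr hN.normAlg
  have hiso : IsIsotypic (env (E.map ρ)) (Fin d → F) := by
    rw [isIsotypic_iff_isFullyInvariant_imp_bot_or_top]
    intro S hS
    have key := h.irr (S.restrictScalars F) fun g u hu => ?_
    · rcases key with h1 | h1
      · left
        rw [eq_bot_iff]
        intro u hu
        have : u ∈ S.restrictScalars F := hu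
        rw [h1, Submodule.mem_bot] at this
        rw [Submodule.mem_bot]
        exact this
      · right
        rw [eq_top_iff]
        intro u _
        have : u ∈ S.restrictScalars F := by rw [h1]; exact Submodule.mem_top
        exact this
    · obtain ⟨x, hx, y, hy, rfl⟩ := hEL g
      rw [map_mul, Units.val_mul, ← mulVec_mulVec]
      have h1 : (ρ y : Matrix (Fin d) (Fin d) F) *ᵥ u ∈ S := by
        let φ : Module.End (env (E.map ρ)) (Fin d → F) :=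
          { toFun := fun v => (ρ y : Matrix (Fin d) (Fin d) F) *ᵥ v
            map_add' := fun v w => mulVec_add _ v w
            map_smul' := fun a v => by
              show (ρ y : Matrix (Fin d) (Fin d) F) *ᵥ ((a : Matrix (Fin d) (Fin d) F) *ᵥ v) =
                (a : Matrix (Fin d) (Fin d) F) *ᵥ ((ρ y : Matrix (Fin d) (Fin d) F) *ᵥ v)
              rw [mulVec_mulVec, mulVec_mulVec, env_comm (fun x hx => hc' x hx y hy) a.2] }
        exact hS φ hu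
      exact S.smul_mem (⟨(ρ x : Matrix (Fin d) (Fin d) F), mem_env ⟨x, hx, rfl⟩⟩ : env (E.map ρ)) h1
  have hsr := isSimpleRing_of_isotypic hss hiso
  have hcen : cen (env (E.map ρ)) = ⊥ := by
    rw [eq_bot_iff]
    intro x hx
    rw [mem_cen] at hx
    obtain ⟨s, hs⟩ := h.abs x fun g => by
      obtain ⟨e, he, y, hy, rfl⟩ := hEL g
      have h1 : (ρ e : Matrix (Fin d) (Fin d) F) * x = x * ρ e := hx.2 _ (mem_env ⟨e, he, rfl⟩)
      have h2 : x * (ρ y : Matrix (Fin d) (Fin d) F) = ρ y * x :=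
        env_comm (fun x hx => hc' x hx y hy) hx.1
      rw [map_mul, Units.val_mul, ← mul_assoc, ← h1, mul_assoc, h2, mul_assoc]
    rw [hs]
    exact Subalgebra.smul_mem _ (Subalgebra.one_mem _) s
  obtain ⟨n₁, n₂, e, P, h1, h2, h3, h4⟩ := exists_tens hsr hcen
  rw [Fintype.card_fin] at h3
  refine ⟨n₁, n₂, e, P, h1, h2, h3, h4, fun y hy => ?_⟩
  set Y : Matrix (Fin n₁ × Fin n₂) (Fin n₁ × Fin n₂) F := (Matrix.reindexAlgEquiv F F e.symm).symm
    (((P⁻¹ : GL (Fin d) F) : Matrix (Fin d) (Fin d) F) * (ρ y : Matrix (Fin d) (Fin d) F) *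
      (P : Matrix (Fin d) (Fin d) F)) with hY
  have hPP : (P : Matrix (Fin d) (Fin d) F) * ((P⁻¹ : GL (Fin d) F) : Matrix (Fin d) (Fin d) F) = 1 := by
    rw [← Units.val_mul, mul_inv_cancel, Units.val_one]
  have hYy : (ρ y : Matrix (Fin d) (Fin d) F) = (P : Matrix (Fin d) (Fin d) F) *
      Matrix.reindexAlgEquiv F F e.symm Y * ((P⁻¹ : GL (Fin d) F) : Matrix (Fin d) (Fin d) F) := by
    rw [hY, AlgEquiv.apply_symm_apply]
    calc (ρ y : Matrix (Fin d) (Fin d) F) =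
        ((P : Matrix (Fin d) (Fin d) F) * ((P⁻¹ : GL (Fin d) F) : Matrix (Fin d) (Fin d) F)) * (ρ y : Matrix (Fin d) (Fin d) F) *
        ((P : Matrix (Fin d) (Fin d) F) * ((P⁻¹ : GL (Fin d) F) : Matrix (Fin d) (Fin d) F)) := by
          rw [hPP, one_mul, mul_one]
      _ = _ := by simp only [mul_assoc]
  obtain ⟨b, hb⟩ := centralizer_tens (F := F) (n₁ := n₁) (n₂ := n₂) h1 (X := Y) fun a => by
    have h5 : tens e P a 1 ∈ env (E.map ρ) := (h4 _).2 ⟨a, rfl⟩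
    have h6 := env_comm (fun x hx => hc' x hx y hy) h5
    apply (Matrix.reindexAlgEquiv F F e.symm).injective
    apply conj_inj (P := P)
    rw [map_mul, map_mul]
    have e1 : ∀ Z W : Matrix (Fin d) (Fin d) F, (P : Matrix (Fin d) (Fin d) F) * (Z * W) *
        ((P⁻¹ : GL (Fin d) F) : Matrix (Fin d) (Fin d) F) =
        ((P : Matrix (Fin d) (Fin d) F) * Z * ((P⁻¹ : GL (Fin d) F) : Matrix (Fin d) (Fin d) F)) *
        ((P : Matrix (Fin d) (Fin d) F) * W * ((P⁻¹ : GL (Fin d) F) : Matrix (Fin d) (Fin d) F)) := by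
      intro Z W
      calc _ = (P : Matrix (Fin d) (Fin d) F) * Z * 1 * W *
          ((P⁻¹ : GL (Fin d) F) : Matrix (Fin d) (Fin d) F) := by simp only [mul_one, mul_assoc]
        _ = (P : Matrix (Fin d) (Fin d) F) * Z * (((P⁻¹ : GL (Fin d) F) : Matrix (Fin d) (Fin d) F) *
          (P : Matrix (Fin d) (Fin d) F)) * W *
          ((P⁻¹ : GL (Fin d) F) : Matrix (Fin d) (Fin d) F) := by
            rw [← Units.val_mul, inv_mul_cancel, Units.val_one]
        _ = _ := by simp only [mul_assoc]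
    rw [e1, e1, ← hYy]
    exact h6
  refine ⟨b, ?_⟩
  rw [hYy, hb]
  rfl

/-- the two representations of the factors -/
theorem exists_reps [Finite F] (h : Rp ρ) (E L₁ L₂ : Subgroup G) [E.Normal]
    (hE : E ≤ L₁) (hL : ∀ x ∈ L₁, ∃ y ∈ E, ∃ z : G, Sca ρ z ∧ x = y * z)
    (hc : ∀ x ∈ E, ∀ y ∈ L₂, x * y = y * x) (hEL : ∀ g : G, ∃ x ∈ E, ∃ y ∈ L₂, g = x * y)
    (hd : 0 < d) :
    ∃ (n₁ n₂ : ℕ), n₁ * n₂ = d ∧
      (∃ ρ₁ : L₁ →* GL (Fin n₁) F, Rp ρ₁ ∧ ∀ x : L₁, Sca ρ₁ x ↔ Sca ρ (x : G)) ∧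
      (∃ ρ₂ : L₂ →* GL (Fin n₂) F, Rp ρ₂ ∧ ∀ x : L₂, Sca ρ₂ x ↔ Sca ρ (x : G)) := by
  obtain ⟨n₁, n₂, e, P, h1, h2, h3, h4, h5⟩ := exists_factor h E L₂ hc hEL hd
  have hlf : Function.Injective (lf (F := F) e P) := fun a a' haa => tens_inj_left h2 haa
  have hrf : Function.Injective (rf (F := F) e P) := fun a a' haa => tens_inj_right h1 haa
  obtain ⟨ρ₁, hρ₁⟩ := exists_lift (lf (F := F) e P).toRingHom.toMonoidHom hlf
    (ρ.comp L₁.subtype) (fun x => by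
      obtain ⟨y, hy, z, ⟨s, hs⟩, hx⟩ := hL x x.2
      obtain ⟨a, ha⟩ := (h4 _).1 (mem_env (N := E.map ρ) ⟨y, hy, rfl⟩)
      refine ⟨s • a, ?_⟩
      show tens e P (s • a) 1 = (ρ x : Matrix (Fin d) (Fin d) F)
      rw [tens_smul_left, ← ha, hx, map_mul, Units.val_mul, hs, mul_smul_comm, mul_one])
  obtain ⟨ρ₂, hρ₂⟩ := exists_lift (rf (F := F) e P).toRingHom.toMonoidHom hrf
    (ρ.comp L₂.subtype) (fun x => by
      obtain ⟨b, hb⟩ := h5 x x.2
      exact ⟨b, hb.symm⟩)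
  have hρ₁' : ∀ x : L₁, tens e P (ρ₁ x : Matrix (Fin n₁) (Fin n₁) F) 1 =
    (ρ (x : G) : Matrix (Fin d) (Fin d) F) := hρ₁
  have hρ₂' : ∀ x : L₂, tens e P 1 (ρ₂ x : Matrix (Fin n₂) (Fin n₂) F) =
    (ρ (x : G) : Matrix (Fin d) (Fin d) F) := hρ₂
  have scal : ∀ M : Matrix (Fin d) (Fin d) F,
      (∀ x ∈ E, M * (ρ x : Matrix (Fin d) (Fin d) F) = ρ x * M) →
      (∀ x ∈ L₂, M * (ρ x : Matrix (Fin d) (Fin d) F) = ρ x * M) →
      ∃ s : F, M = s • (1 : Matrix (Fin d) (Fin d) F) := by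
    intro M hM1 hM2
    refine h.abs M fun g => ?_
    obtain ⟨x, hx, y, hy, rfl⟩ := hEL g
    rw [map_mul, Units.val_mul, ← mul_assoc, hM1 x hx, mul_assoc, hM2 y hy, mul_assoc]
  have hone : tens e P (1 : Matrix (Fin n₁) (Fin n₁) F) (1 : Matrix (Fin n₂) (Fin n₂) F) = 1 :=
    tens_one e P
  refine ⟨n₁, n₂, h3, ⟨ρ₁, ⟨?_, ?_, ?_⟩, ?_⟩, ⟨ρ₂, ⟨?_, ?_, ?_⟩, ?_⟩⟩
  · intro x y hxy
    apply Subtype.ext
    apply h.inj
    apply Units.ext
    rw [← hρ₁', ← hρ₁', hxy]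
  · -- irreducible
    intro U hU
    apply irr_all
    let B : Subalgebra F (Matrix (Fin n₁) (Fin n₁) F) :=
      { carrier := {a | ∀ u ∈ U, a.mulVec u ∈ U}
        mul_mem' := fun {a b} ha hb u hu => by
          rw [← mulVec_mulVec]
          exact ha _ (hb _ hu)
        add_mem' := fun {a b} ha hb u hu => by
          rw [add_mulVec]
          exact U.add_mem (ha _ hu) (hb _ hu)
        algebraMap_mem' := fun s u hu => by
          rw [Algebra.algebraMap_eq_smul_one, smul_mulVec, one_mulVec]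
          exact U.smul_mem s hu }
    have hB : env (E.map ρ) ≤ B.map (lf e P) := by
      refine Algebra.adjoin_le ?_
      rintro _ ⟨_, ⟨x, hx, rfl⟩, rfl⟩
      exact ⟨(ρ₁ ⟨x, hE hx⟩ : Matrix (Fin n₁) (Fin n₁) F), fun u hu => hU _ u hu, hρ₁' ⟨x, hE hx⟩⟩
    intro a
    obtain ⟨a', ha', haa⟩ := hB ((h4 _).2 ⟨a, rfl⟩)
    have : a' = a := hlf haa
    rw [← this]
    exact ha'
  · intro M hM
    obtain ⟨s, hs⟩ := scal (tens e P M 1) (fun x hx => by
      have h6 := hM ⟨x, hE hx⟩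
      rw [← hρ₁' ⟨x, hE hx⟩, tens_mul, tens_mul, h6]) (fun x hx => by
      rw [← hρ₂' ⟨x, hx⟩, tens_comm])
    refine ⟨s, tens_inj_left h2 (e := e) (P := P) ?_⟩
    rw [tens_smul_left, hone, hs]
  · intro x
    constructor
    · rintro ⟨s, hs⟩
      refine ⟨s, ?_⟩
      rw [← hρ₁', hs, tens_smul_left, hone]
    · rintro ⟨s, hs⟩
      refine ⟨s, tens_inj_left h2 (e := e) (P := P) ?_⟩
      rw [hρ₁', hs, tens_smul_left, hone]
  · intro x y hxy
    apply Subtype.ext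
    apply h.inj
    apply Units.ext
    rw [← hρ₂', ← hρ₂', hxy]
  · intro U hU
    have key := h.irr (rows e P U) fun g u hu => ?_
    · rcases key with h6 | h6
      · exact Or.inl (rows_eq_bot h1 h6)
      · exact Or.inr (rows_eq_top h1 h6)
    · obtain ⟨x, hx, y, hy, rfl⟩ := hEL g
      rw [map_mul, Units.val_mul, ← mulVec_mulVec, ← hρ₁' ⟨x, hE hx⟩, ← hρ₂' ⟨y, hy⟩]
      exact rows_left _ (rows_right (fun u hu => hU ⟨y, hy⟩ u hu) hu)
  · intro M hM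
    obtain ⟨s, hs⟩ := scal (tens e P 1 M) (fun x hx => by
      rw [← hρ₁' ⟨x, hE hx⟩, tens_comm]) (fun x hx => by
      have h6 := hM ⟨x, hx⟩
      rw [← hρ₂' ⟨x, hx⟩, tens_mul, tens_mul, h6])
    refine ⟨s, tens_inj_right h1 (e := e) (P := P) ?_⟩
    rw [tens_smul_right, hone, hs]
  · intro x
    constructor
    · rintro ⟨s, hs⟩
      refine ⟨s, ?_⟩
      rw [← hρ₂', hs, tens_smul_right, hone]
    · rintro ⟨s, hs⟩
      refine ⟨s, tens_inj_right h1 (e := e) (P := P) ?_⟩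
      rw [hρ₂', hs, tens_smul_right, hone]

end Cfsg.Agent.H754.KGV
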